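/-
An integral vector lattice on 24 coordinates with a frame and 196560 minimal vectors is the lattice of the code.
-/
import Cfsg.Agent.Lib.Leech.Basic
import Cfsg.Agent.Lib.GolayUnique.Bridge

set_option autoImplicit false
set_option maxRecDepth 8000

namespace CfsgLib.LeechUnique

open Cfsg CfsgLeech CfsgCode

/-- What is known of the coordinate lattice. -/
structure Facts (L : AddSubgroup (GolayPt → ℤ)) : Prop where
  dot : ∀ x ∈ L, ∀ y ∈ L, (8 : ℤ) ∣ dotInt x y
  norm : ∀ x ∈ L, (16 : ℤ) ∣ sqNorm x
  min : ∀ x ∈ L, x ≠ 0 → 32 ≤ sqNorm x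
  eight : ∀ i, Pi.single i (8 : ℤ) ∈ L
  pair : ∀ i j, i ≠ j → Pi.single i (4 : ℤ) - Pi.single j 4 ∈ L
  count : {x | x ∈ L ∧ sqNorm x = 32}.ncard = 196560

variable {L : AddSubgroup (GolayPt → ℤ)}

/-- Halves of the even vectors. -/
def halves (L : AddSubgroup (GolayPt → ℤ)) : AddSubgroup (GolayPt → ℤ) :=
  L.comap (nsmulAddMonoidHom 2)

/-- The binary code of the even vectors. -/
def code (L : AddSubgroup (GolayPt → ℤ)) : Submodule (ZMod 2) (GolayPt → ZMod 2) :=
  AddSubgroup.toZModSubmodule 2 ((halves L).map (AddMonoidHom.compLeft (Int.castAddHom (ZMod 2)) GolayPt))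

theorem mem_code {w : GolayPt → ZMod 2} :
    w ∈ code L ↔ ∃ a : GolayPt → ℤ, (fun i => 2 * a i) ∈ L ∧ ∀ i, (a i : ZMod 2) = w i := by
  have h2 : ∀ a : GolayPt → ℤ, (2 • a) = fun i => 2 * a i := fun a => by funext i; simp
  simp only [code, AddSubgroup.mem_toZModSubmodule, AddSubgroup.mem_map, halves, AddSubgroup.mem_comap,
    nsmulAddMonoidHom_apply, h2, funext_iff, AddMonoidHom.compLeft_apply, Function.comp_apply, Int.coe_castAddHom]

theorem cast_chi (a : GolayPt → ℤ) : ∀ i, ∃ t, a i = chi (support₂ fun j => (a j : ZMod 2)) i + 2 * t := by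
  intro i
  by_cases h : i ∈ support₂ fun j => (a j : ZMod 2)
  · have hc : chi (support₂ fun j => (a j : ZMod 2)) i = 1 := by rw [chi, if_pos h]
    simp only [support₂, Finset.mem_filter, Finset.mem_univ, true_and, ne_eq, ZMod.intCast_zmod_eq_zero_iff_dvd,
      Nat.cast_ofNat] at h
    exact ⟨(a i - 1) / 2, by omega⟩
  · have hc : chi (support₂ fun j => (a j : ZMod 2)) i = 0 := by rw [chi, if_neg h]
    simp only [support₂, Finset.mem_filter, Finset.mem_univ, true_and, ne_eq, ZMod.intCast_zmod_eq_zero_iff_dvd,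
      Nat.cast_ofNat, not_not] at h
    exact ⟨a i / 2, by omega⟩

namespace Facts

variable (D : Facts L)

include D

/-- Four times a vector of even sum. -/
theorem four_mem (y : GolayPt → ℤ) (hy : (2 : ℤ) ∣ ∑ i, y i) : (fun i => 4 * y i) ∈ L := by
  obtain ⟨t, ht⟩ := hy
  have he : (fun i => 4 * y i) = (∑ i, y i • (Pi.single i (4 : ℤ) - Pi.single none 4)) + t • Pi.single none (8 : ℤ) := by
    funext j
    simp only [Pi.add_apply, Finset.sum_apply, Pi.smul_apply, Pi.sub_apply, Pi.single_apply, smul_eq_mul, mul_sub,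
      Finset.sum_sub_distrib, mul_ite, mul_zero, Finset.sum_ite_eq, Finset.mem_univ, if_true]
    by_cases hj : j = none
    · simp only [hj, if_true, ← Finset.sum_mul, ht]
      ring
    · simp only [hj, if_false, Finset.sum_const_zero]
      ring
  rw [he]
  refine add_mem (sum_mem fun i _ => zsmul_mem ?_ _) (zsmul_mem (D.eight _) _)
  by_cases h : i = none
  · rw [h, sub_self]; exact zero_mem _
  · exact D.pair i none h

/-- Coordinates of one vector have one parity. -/
theorem parity {x : GolayPt → ℤ} (hx : x ∈ L) (i j : GolayPt) : (2 : ℤ) ∣ x i - x j := by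
  by_cases h : i = j
  · simp [h]
  have := D.dot x hx _ (D.pair i j h)
  simp only [dotInt, Pi.sub_apply, Pi.single_apply, mul_sub, Finset.sum_sub_distrib, mul_ite, mul_zero,
    Finset.sum_ite_eq', Finset.mem_univ, if_true] at this
  omega

/-- A word of the code has a lift with entries two in absolute value. -/
theorem lift {w : GolayPt → ZMod 2} (hw : w ∈ code L) (hne : w ≠ 0) :
    ∃ v ∈ L, ∀ i, (i ∈ support₂ w → v i = 2 ∨ v i = -2) ∧ (i ∉ support₂ w → v i = 0) := by
  obtain ⟨a, ha, he⟩ := mem_code.mp hw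
  choose t ht using cast_chi a
  rw [show (fun j => (a j : ZMod 2)) = w from funext he] at ht
  obtain ⟨k, hk⟩ : (support₂ w).Nonempty := by
    rw [Finset.nonempty_iff_ne_empty]
    exact fun e => hne (by rw [← chiW_supp w, e, chiW_empty])
  by_cases hs : (2 : ℤ) ∣ ∑ i, t i
  · refine ⟨_, sub_mem ha (D.four_mem t hs), fun i => ⟨fun h => Or.inl ?_, fun h => ?_⟩⟩
    · simp only [Pi.sub_apply, ht i, chi, if_pos h]; ring
    · simp only [Pi.sub_apply, ht i, chi, if_neg h]; ring
  · refine ⟨_, sub_mem ha (D.four_mem (t + Pi.single k 1) ?_), fun i => ⟨fun h => ?_, fun h => ?_⟩⟩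
    · simp only [Pi.add_apply, Finset.sum_add_distrib, Finset.sum_pi_single', Finset.mem_univ, if_true]
      omega
    · simp only [Pi.sub_apply, Pi.add_apply, ht i, chi, if_pos h, Pi.single_apply]
      split
      · right; ring
      · left; ring
    · simp only [Pi.sub_apply, Pi.add_apply, ht i, chi, if_neg h, Pi.single_apply,
        if_neg (fun e : i = k => h (e ▸ hk))]
      ring

theorem code_min {w : GolayPt → ZMod 2} (hw : w ∈ code L) (hne : w ≠ 0) :
    8 ≤ (support₂ w).card ∧ 4 ∣ (support₂ w).card := by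
  obtain ⟨v, hv, hv'⟩ := D.lift hw hne
  have hn : sqNorm v = 4 * ((support₂ w).card : ℤ) := by
    rw [sqNorm, ← sum_chi, Finset.mul_sum]
    refine Finset.sum_congr rfl fun i _ => ?_
    by_cases h : i ∈ support₂ w
    · rcases (hv' i).1 h with e | e <;> simp [chi, h, e]
    · simp [chi, h, (hv' i).2 h]
  have h16 := D.norm v hv
  have hv0 : v ≠ 0 := by
    intro e
    obtain ⟨k, hk⟩ : (support₂ w).Nonempty := by
      rw [Finset.nonempty_iff_ne_empty]
      exact fun e => hne (by rw [← chiW_supp w, e, chiW_empty])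
    rcases (hv' k).1 hk with h | h <;> simp [e] at h
  have := D.min v hv hv0
  omega

theorem code_orth {w w' : GolayPt → ZMod 2} (hw : w ∈ code L) (hw' : w' ∈ code L) : ∑ i, w i * w' i = 0 := by
  by_cases h0 : w = 0
  · simp [h0]
  by_cases h0' : w' = 0
  · simp [h0']
  obtain ⟨v, hv, hv'⟩ := D.lift hw h0
  obtain ⟨u, hu, hu'⟩ := D.lift hw' h0'
  have h8 := D.dot v hv u hu
  have hd : (8 : ℤ) ∣ (∑ i, v i * u i) - 4 * ((support₂ w ∩ support₂ w').card : ℤ) := by
    rw [← sum_chi, Finset.mul_sum, ← Finset.sum_sub_distrib]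
    refine Finset.dvd_sum fun i _ => ?_
    by_cases h : i ∈ support₂ w
    · by_cases h' : i ∈ support₂ w'
      · rcases (hv' i).1 h with e | e <;> rcases (hu' i).1 h' with e' | e' <;> simp [chi, h, h', e, e']
      · simp [chi, h, h', (hu' i).2 h']
    · simp [chi, h, (hv' i).2 h]
  rw [← chiW_supp w, ← chiW_supp w', dot_chiW, ZMod.natCast_eq_zero_iff]
  simp only [dotInt] at h8
  omega

theorem code_dim : Module.finrank (ZMod 2) (code L) ≤ 12 :=
  dim_le_of_min7 card_univ_pt _ fun s hs hne => by
    have := (D.code_min hs fun e => hne (chiW_inj (e.trans chiW_empty.symm))).1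
    rw [supp_chiW] at this
    omega

/-- The minimal vectors of even entries divisible by four, of the octad shape, of odd entries. -/
theorem shapes {x : GolayPt → ℤ} (hx : x ∈ L) (hn : sqNorm x = 32) :
    (∃ p : Finset GolayPt, p.card = 2 ∧ ∀ i, (i ∈ p → x i = 4 ∨ x i = -4) ∧ (i ∉ p → x i = 0)) ∨
    (∃ s : Finset GolayPt, chiW s ∈ code L ∧ s.card = 8 ∧ ∀ i, (i ∈ s → x i = 2 ∨ x i = -2) ∧ (i ∉ s → x i = 0)) ∨
    (∃ k, (x k = 3 ∨ x k = -3) ∧ ∀ i ≠ k, x i = 1 ∨ x i = -1) := by
  by_cases he : (2 : ℤ) ∣ x none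
  · have hev : ∀ i, ∃ a, x i = 2 * a := fun i => by
      have := D.parity hx i none
      exact ⟨x i / 2, by omega⟩
    choose a ha using hev
    have hxe : x = fun i => 2 * a i := funext ha
    set w : GolayPt → ZMod 2 := fun j => (a j : ZMod 2) with hw
    have hwc : w ∈ code L := mem_code.mpr ⟨a, hxe ▸ hx, fun i => rfl⟩
    choose t ht using cast_chi a
    have hsum : ∑ i, a i ^ 2 = 8 := by
      have : sqNorm x = 4 * ∑ i, a i ^ 2 := by
        rw [sqNorm, Finset.mul_sum]; exact Finset.sum_congr rfl fun i _ => by rw [ha i]; ring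
      omega
    by_cases hw0 : w = 0
    · left
      have h0 : ∀ i, a i = 2 * t i := fun i => by
        have := ht i
        rw [show (fun j => (a j : ZMod 2)) = 0 from hw0] at this
        simpa [chi, support₂] using this
      have hsum2 : ∑ i, t i ^ 2 = 2 := by
        have : ∑ i, a i ^ 2 = 4 * ∑ i, t i ^ 2 := by
          rw [Finset.mul_sum]; exact Finset.sum_congr rfl fun i _ => by rw [h0 i]; ring
        omega
      have hle : ∀ i, t i ^ 2 ≤ 1 := fun i => by
        have h := Finset.single_le_sum (f := fun i => t i ^ 2) (fun j _ => sq_nonneg _) (Finset.mem_univ i)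
        rw [hsum2] at h
        nlinarith [show t i ≤ 1 by nlinarith, show -1 ≤ t i by nlinarith]
      have hcase : ∀ i, t i = 0 ∨ t i = 1 ∨ t i = -1 := fun i => by
        have := hle i
        have h1 : t i ≤ 1 := by nlinarith
        have h2 : -1 ≤ t i := by nlinarith
        omega
      refine ⟨Finset.univ.filter fun i => t i ≠ 0, ?_, fun i => ⟨fun h => ?_, fun h => ?_⟩⟩
      · have : ((Finset.univ.filter fun i => t i ≠ 0).card : ℤ) = 2 := by
          rw [← hsum2, ← Finset.sum_boole]
          refine Finset.sum_congr rfl fun i _ => ?_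
          rcases hcase i with h | h | h <;> simp [h]
        omega
      · rcases hcase i with e | e | e
        · simp [e] at h
        · left; rw [ha i, h0 i, e]; norm_num
        · right; rw [ha i, h0 i, e]; norm_num
      · have e : t i = 0 := by simpa using h
        rw [ha i, h0 i, e]; ring
    · right; left
      obtain ⟨h8, -⟩ := D.code_min hwc hw0
      have hge : ∀ i, chi (support₂ w) i ≤ a i ^ 2 := fun i => by
        by_cases h : i ∈ support₂ w
        · have hne : a i ≠ 0 := by rw [ht i, chi, if_pos h]; omega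
          simp only [chi, if_pos h]
          have := sq_pos_of_ne_zero hne
          omega
        · simp only [chi, if_neg h]; positivity
      have htot : ∑ i, (a i ^ 2 - chi (support₂ w) i) = 8 - ((support₂ w).card : ℤ) := by
        rw [Finset.sum_sub_distrib, hsum, sum_chi]
      have hnn : 0 ≤ ∑ i, (a i ^ 2 - chi (support₂ w) i) := Finset.sum_nonneg fun i _ => sub_nonneg.mpr (hge i)
      have heq : ∀ i, a i ^ 2 = chi (support₂ w) i := fun i => by
        have := (Finset.sum_eq_zero_iff_of_nonneg fun j _ => sub_nonneg.mpr (hge j)).mp (by omega) i (Finset.mem_univ i)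
        omega
      refine ⟨support₂ w, by rwa [chiW_supp], by omega, fun i => ⟨fun h => ?_, fun h => ?_⟩⟩
      · have := heq i
        rw [chi, if_pos h, sq_eq_one_iff] at this
        rcases this with e | e <;> rw [ha i, e] <;> norm_num
      · have := heq i
        rw [chi, if_neg h] at this
        rw [ha i, pow_eq_zero_iff two_ne_zero |>.mp this, mul_zero]
  · right; right
    have hodd : ∀ i, ¬ (2 : ℤ) ∣ x i := fun i => by have := D.parity hx i none; omega
    have h8 : ∀ i, ∃ q, x i ^ 2 - 1 = 8 * q := fun i => by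
      obtain ⟨b, hb⟩ : ∃ b, x i = 2 * b + 1 := ⟨x i / 2, by have := hodd i; omega⟩
      obtain ⟨u, hu⟩ := (Int.even_mul_succ_self b).two_dvd
      exact ⟨u, by rw [hb]; linear_combination 4 * hu⟩
    choose q hq using h8
    have hq0 : ∀ i, 0 ≤ q i := fun i => by
      have := sq_pos_of_ne_zero (show x i ≠ 0 from fun e => hodd i (by simp [e]))
      have := hq i
      omega
    have hsum : ∑ i, q i = 1 := by
      have : ∑ i, (x i ^ 2 - 1) = 8 * ∑ i, q i := by
        rw [Finset.mul_sum]; exact Finset.sum_congr rfl fun i _ => hq i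
      rw [Finset.sum_sub_distrib, ← sqNorm, hn] at this
      simp only [Finset.sum_const, Finset.card_univ, card_univ_pt] at this
      simp only [nsmul_eq_mul, Nat.cast_ofNat, mul_one] at this
      omega
    obtain ⟨k, -, hk⟩ : ∃ k ∈ (Finset.univ : Finset GolayPt), q k ≠ 0 := by
      by_contra h
      push Not at h
      rw [Finset.sum_eq_zero h] at hsum
      omega
    have hsplit := Finset.add_sum_erase Finset.univ q (Finset.mem_univ k)
    have hrest : 0 ≤ ∑ i ∈ Finset.univ.erase k, q i := Finset.sum_nonneg fun i _ => hq0 i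
    have := hq0 k
    refine ⟨k, ?_, fun i hi => ?_⟩
    · have h9 : x k ^ 2 = 3 ^ 2 := by have := hq k; rw [show q k = 1 by omega] at this; linarith
      exact sq_eq_sq_iff_eq_or_eq_neg.mp h9
    · have hz : q i = 0 := (Finset.sum_eq_zero_iff_of_nonneg fun j _ => hq0 j).mp
        (by omega : ∑ i ∈ Finset.univ.erase k, q i = 0) i (Finset.mem_erase.mpr ⟨hi, Finset.mem_univ i⟩)
      have h1 : x i ^ 2 = 1 := by have := hq i; rw [hz] at this; linarith
      exact sq_eq_one_iff.mp h1

theorem octads_le [DecidablePred fun s : Finset GolayPt => chiW s ∈ code L] :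
    ((Finset.univ.powersetCard 8).filter fun s : Finset GolayPt => chiW s ∈ code L).card ≤ 759 := by
  set O := (Finset.univ.powersetCard 8).filter fun s : Finset GolayPt => chiW s ∈ code L with hO
  have hmem : ∀ s ∈ O, s.card = 8 ∧ chiW s ∈ code L := fun s hs => by
    simpa [hO, Finset.mem_powersetCard_univ] using hs
  have hinj : (O.biUnion fun s => s.powersetCard 5).card = ∑ s ∈ O, (s.powersetCard 5).card := by
    refine Finset.card_biUnion fun s hs t ht hne => Finset.disjoint_left.mpr fun u hu hu' => ?_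
    obtain ⟨hs8, hsc⟩ := hmem s hs
    obtain ⟨ht8, htc⟩ := hmem t ht
    obtain ⟨hus, hu5⟩ := Finset.mem_powersetCard.mp hu
    obtain ⟨hut, -⟩ := Finset.mem_powersetCard.mp hu'
    have hd : chiW (symmDiff s t) ∈ code L := by rw [← chiW_add]; exact add_mem hsc htc
    have h := (D.code_min hd fun e => hne (symmDiff_eq_bot.mp (chiW_inj (e.trans chiW_empty.symm)))).1
    rw [supp_chiW] at h
    have h5 := Finset.card_le_card (Finset.subset_inter hus hut)
    have := card_symmDiff' s t
    omega
  rw [Finset.sum_congr rfl fun s hs => by rw [Finset.card_powersetCard, (hmem s hs).1], Finset.sum_const,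
    smul_eq_mul] at hinj
  have hle : (O.biUnion fun s => s.powersetCard 5).card ≤ ((Finset.univ : Finset GolayPt).powersetCard 5).card :=
    Finset.card_le_card (Finset.biUnion_subset.mpr fun s _ => Finset.powersetCard_mono (Finset.subset_univ _))
  rw [hinj, Finset.card_powersetCard, Finset.card_univ, card_univ_pt, show Nat.choose 24 5 = 42504 by decide,
    show Nat.choose 8 5 = 56 by decide] at hle
  omega

/-- The code is full and there is an odd minimal vector. -/
theorem full : IsGolay (code L) ∧ ∃ o ∈ L, ∃ k, (o k = 3 ∨ o k = -3) ∧ ∀ i ≠ k, o i = 1 ∨ o i = -1 := by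
  classical
  have hfin : {x | x ∈ L ∧ sqNorm x = 32}.Finite := Set.finite_of_ncard_ne_zero (by rw [D.count]; norm_num)
  set F := hfin.toFinset with hF
  have hmemF : ∀ x ∈ F, x ∈ L ∧ sqNorm x = 32 := fun x hx => by simpa [hF] using hx
  have hcard : F.card = 196560 := by rw [hF, ← Set.ncard_eq_toFinset_card _ hfin, D.count]
  set A := F.filter fun x => ∃ p : Finset GolayPt, p.card = 2 ∧ ∀ i, (i ∈ p → x i = 4 ∨ x i = -4) ∧ (i ∉ p → x i = 0)
  set O := (Finset.univ.powersetCard 8).filter fun s : Finset GolayPt => chiW s ∈ code L with hO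
  set B := F.filter fun x => ∃ s : Finset GolayPt, chiW s ∈ code L ∧ s.card = 8 ∧
    ∀ i, (i ∈ s → x i = 2 ∨ x i = -2) ∧ (i ∉ s → x i = 0)
  set E := F.filter fun x => ∃ k, (x k = 3 ∨ x k = -3) ∧ ∀ i ≠ k, x i = 1 ∨ x i = -1
  have hcov : F ⊆ A ∪ B ∪ E := fun x hx => by
    obtain ⟨h1, h2⟩ := hmemF x hx
    rcases D.shapes h1 h2 with h | h | h <;> simp [A, B, E, hx, h]
  have htot : F.card ≤ A.card + B.card + E.card :=
    (Finset.card_le_card hcov).trans ((Finset.card_union_le _ _).trans (Nat.add_le_add_right (Finset.card_union_le _ _) _))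
  have hA : A.card ≤ 1104 := by
    refine (Finset.card_le_card (t := ((Finset.univ : Finset GolayPt).powersetCard 2).biUnion fun p =>
      Fintype.piFinset fun i => if i ∈ p then ({4, -4} : Finset ℤ) else {0}) fun x hx => ?_).trans
      (Finset.card_biUnion_le_card_mul _ _ 4 (fun p hp => ?_) |>.trans_eq ?_)
    · obtain ⟨-, p, hp, hi⟩ := Finset.mem_filter.mp hx
      simp only [Finset.mem_biUnion, Finset.mem_powersetCard_univ, Fintype.mem_piFinset]
      refine ⟨p, hp, fun i => ?_⟩
      by_cases h : i ∈ p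
      · simpa [h] using (hi i).1 h
      · simp [h, (hi i).2 h]
    · rw [Fintype.card_piFinset]
      simp only [apply_ite Finset.card, Finset.card_singleton]
      rw [Finset.prod_ite, Finset.prod_const_one, mul_one, Finset.prod_const, Finset.filter_mem_eq_inter,
        Finset.univ_inter, (Finset.mem_powersetCard.mp hp).2]
      simp
    · rw [Finset.card_powersetCard, Finset.card_univ, card_univ_pt]
      decide
  have hB : B.card ≤ O.card * 128 := by
    have hsub : B ⊆ O.biUnion fun s => B.filter fun x => ∀ i, (i ∈ s → x i = 2 ∨ x i = -2) ∧ (i ∉ s → x i = 0) := by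
      intro x hx
      obtain ⟨-, s, hs, hs8, hi⟩ := Finset.mem_filter.mp hx
      simp only [Finset.mem_biUnion, Finset.mem_filter, hO, Finset.mem_powersetCard_univ]
      exact ⟨s, ⟨hs8, hs⟩, hx, hi⟩
    refine (Finset.card_le_card hsub).trans (Finset.card_biUnion_le_card_mul _ _ 128 fun s hs => ?_)
    have hs8 : s.card = 8 := by simpa [hO] using (Finset.mem_filter.mp hs).1
    obtain ⟨k, hk⟩ : s.Nonempty := Finset.card_pos.mp (by omega)
    refine (Finset.card_le_card_of_injOn (fun x => Function.update x k 2)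
      (t := Fintype.piFinset fun i => if i ∈ s.erase k then ({2, -2} : Finset ℤ) else if i = k then {2} else {0})
      (fun x hx => ?_) fun x hx y hy e => ?_).trans ?_
    · simp only [Finset.mem_coe, Finset.mem_filter] at hx
      simp only [Finset.mem_coe, Fintype.mem_piFinset]
      intro i
      by_cases hik : i = k
      · simp [hik]
      · by_cases h : i ∈ s
        · simpa [hik, h] using (hx.2 i).1 h
        · simp [hik, h, (hx.2 i).2 h]
    · simp only [Finset.mem_coe, Finset.mem_filter] at hx hy
      have hoff : ∀ i ≠ k, x i = y i := fun i hi => by simpa [hi] using congrFun e i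
      funext i
      by_cases hik : i = k
      · subst hik
        by_contra hne
        have h4 : x - y ≠ 0 := fun h => hne (sub_eq_zero.mp (congrFun h i))
        have := D.min _ (sub_mem (hmemF x (Finset.mem_filter.mp hx.1).1).1 (hmemF y (Finset.mem_filter.mp hy.1).1).1) h4
        rw [sqNorm, Finset.sum_eq_single i (fun b _ hb => by simp [hoff b hb]) (fun h => absurd (Finset.mem_univ i) h)]
          at this
        rcases (hx.2 i).1 hk with a | a <;> rcases (hy.2 i).1 hk with b | b <;> simp [a, b] at this hne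
      · exact hoff i hik
    · rw [Fintype.card_piFinset]
      simp only [apply_ite Finset.card, Finset.card_singleton, ite_self]
      rw [Finset.prod_ite, Finset.prod_const_one, mul_one, Finset.prod_const, Finset.filter_mem_eq_inter,
        Finset.univ_inter, Finset.card_erase_of_mem hk, hs8]
      simp
  have hE : E.card ≤ 24 * Nat.card (code L) := by
    rcases E.eq_empty_or_nonempty with h | ⟨o, ho⟩
    · simp [h]
    obtain ⟨hoF, k₀, hk₀, hoo⟩ := Finset.mem_filter.mp ho
    have hoodd : ∀ i, ¬ (2 : ℤ) ∣ o i := fun i => by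
      by_cases h : i = k₀
      · subst h; rcases hk₀ with e | e <;> rw [e] <;> decide
      · rcases hoo i h with e | e <;> rw [e] <;> decide
    have hcls : ∀ x : E, ∃ k, ((x : GolayPt → ℤ) k = 3 ∨ (x : GolayPt → ℤ) k = -3) ∧
        (∀ i ≠ k, (x : GolayPt → ℤ) i = 1 ∨ (x : GolayPt → ℤ) i = -1) ∧
        ∃ w : code L, ∀ i, ((((x : GolayPt → ℤ) i - o i) / 2 : ℤ) : ZMod 2) = (w : GolayPt → ZMod 2) i := by
      rintro ⟨x, hx⟩
      obtain ⟨hxF, k, hk, hxo⟩ := Finset.mem_filter.mp hx
      refine ⟨k, hk, hxo, ⟨fun i => (((x i - o i) / 2 : ℤ) : ZMod 2),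
        mem_code.mpr ⟨fun i => (x i - o i) / 2, ?_, fun i => rfl⟩⟩, fun i => rfl⟩
      have : (fun i => 2 * ((x i - o i) / 2)) = x - o := by
        funext i
        have : ¬ (2 : ℤ) ∣ x i := by
          by_cases h : i = k
          · subst h; rcases hk with e | e <;> rw [e] <;> decide
          · rcases hxo i h with e | e <;> rw [e] <;> decide
        have := hoodd i
        simp only [Pi.sub_apply]
        omega
      rw [this]
      exact sub_mem (hmemF x hxF).1 (hmemF o hoF).1
    choose pk hpk hpo pw hpw using hcls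
    have := Nat.card_le_card_of_injective (fun x : E => (pk x, pw x)) fun x y e => by
      simp only [Prod.mk.injEq] at e
      refine Subtype.ext (funext fun i => ?_)
      have h4 : (2 : ℤ) ∣ ((x : GolayPt → ℤ) i - o i) / 2 - ((y : GolayPt → ℤ) i - o i) / 2 := by
        have := (hpw x i).trans ((by rw [e.2] : (pw x : GolayPt → ZMod 2) i = (pw y : GolayPt → ZMod 2) i).trans (hpw y i).symm)
        rw [ZMod.intCast_eq_intCast_iff, Int.modEq_iff_dvd] at this
        omega
      have := hoodd i
      by_cases h : i = pk x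
      · have hy3 := hpk y
        rw [← e.1, ← h] at hy3
        rcases h ▸ hpk x with a | a <;> rcases hy3 with b | b <;> omega
      · rcases hpo x i h with a | a <;> rcases hpo y i (e.1 ▸ h) with b | b <;> omega
    simpa [Nat.card_eq_fintype_card, card_univ_pt] using this
  have hdim := D.code_dim
  have hcc := card_code (code L)
  have hO' : O.card ≤ 759 := D.octads_le
  have hcl : Nat.card (code L) ≤ 4096 := by
    rw [hcc]; exact (Nat.pow_le_pow_right (by norm_num) hdim).trans (by norm_num)
  have h12 : Module.finrank (ZMod 2) (code L) = 12 := by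
    have : Nat.card (code L) = 4096 := by omega
    rw [hcc, show (4096 : ℕ) = 2 ^ 12 by norm_num] at this
    exact Nat.pow_right_injective le_rfl this
  refine ⟨⟨card_univ_pt, h12, fun v hv w hw => D.code_orth hv hw, fun s hs hne => ?_⟩, ?_⟩
  · have := (D.code_min hs fun e => hne (chiW_inj (e.trans chiW_empty.symm))).1
    rwa [supp_chiW] at this
  · obtain ⟨o, ho⟩ := Finset.card_pos.mp (show 0 < E.card by omega)
    obtain ⟨hoF, h⟩ := Finset.mem_filter.mp ho
    exact ⟨o, (hmemF o hoF).1, h⟩

/-- Up to a signed permutation the lattice is the lattice of the code. -/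
theorem identify : ∃ (e : Equiv.Perm GolayPt) (σ : GolayPt → ℤ), (∀ j, σ j = 1 ∨ σ j = -1) ∧
    ∀ x, x ∈ L ↔ (fun j => σ j * x (e j)) ∈ leechLattice := by
  classical
  obtain ⟨hG, o, ho, k₀, hk₀, hoo⟩ := D.full
  obtain ⟨e, he⟩ := std_words hG
  let σ : GolayPt → ℤ := fun j => if o (e.symm j) = 1 ∨ o (e.symm j) = -3 then 1 else -1
  have hσ : ∀ j, σ j = 1 ∨ σ j = -1 := fun j => by simp only [σ]; split <;> simp
  refine ⟨e.symm, σ, hσ, ?_⟩
  let T : (GolayPt → ℤ) →+ (GolayPt → ℤ) := AddMonoidHom.mk' (fun x j => σ j * x (e.symm j))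
    fun a b => by funext j; simp [mul_add]
  have hTinj : Function.Injective T := fun a b h => funext fun i => by
    have := congrFun h (e i)
    simp only [T, AddMonoidHom.mk'_apply, Equiv.symm_apply_apply] at this
    rcases hσ (e i) with s | s <;> rw [s] at this <;> omega
  have hTo : T o = fun j => 1 - 4 * (Pi.single (e k₀) 1 : GolayPt → ℤ) j := by
    funext j
    simp only [T, AddMonoidHom.mk'_apply, σ, Pi.single_apply]
    by_cases h : j = e k₀
    · subst h; rcases hk₀ with s | s <;> simp [s]
    · have h' : e.symm j ≠ k₀ := fun q => h (by rw [← q, Equiv.apply_symm_apply])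
      rcases hoo _ h' with s | s <;> simp [s, h]
  have hfour : ∀ y : GolayPt → ℤ, (2 : ℤ) ∣ ∑ j, y j → ∃ x ∈ L, T x = fun j => 4 * y j := by
    intro y hy
    refine ⟨_, D.four_mem (fun i => σ (e i) * y (e i)) ?_, ?_⟩
    · have h2 : (2 : ℤ) ∣ (∑ i, σ (e i) * y (e i)) - ∑ i, y (e i) := by
        rw [← Finset.sum_sub_distrib]
        refine Finset.dvd_sum fun i _ => ?_
        rcases hσ (e i) with s | s <;> rw [s] <;> omega
      rw [Equiv.sum_comp e y] at h2
      omega
    · funext j
      simp only [T, AddMonoidHom.mk'_apply, Equiv.apply_symm_apply]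
      rcases hσ j with s | s <;> rw [s] <;> ring
  have hToL : T o ∈ leechLattice := by
    rw [hTo, mem_leech]
    refine ⟨1, ∅, fun j => -(Pi.single (e k₀) 1 : GolayPt → ℤ) j, CW_empty, fun j => by simp [chi]; ring, ?_⟩
    simp
  -- even vectors
  have heven : ∀ x ∈ L, (2 : ℤ) ∣ x none → ∃ (c : Finset GolayPt) (y : GolayPt → ℤ), c ∈ CW ∧
      T x = (fun j => 2 * chi c j + 4 * y j) ∧ (2 : ℤ) ∣ ∑ j, y j := by
    intro x hx h2
    have hev : ∀ i, ∃ a, x i = 2 * a := fun i => by
      have := D.parity hx i none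
      exact ⟨x i / 2, by omega⟩
    choose a ha using hev
    let a' : GolayPt → ℤ := fun j => σ j * a (e.symm j)
    choose y hy using cast_chi a'
    have hcw : support₂ (fun j => (a' j : ZMod 2)) ∈ CW := by
      refine chiW_mem_supports.mpr ?_
      rw [chiW_supp, he]
      refine mem_code.mpr ⟨a, (funext ha : x = _) ▸ hx, fun i => ?_⟩
      simp only [a', Equiv.symm_apply_apply]
      rcases hσ (e i) with s | s <;> rw [s] <;> simp [CharTwo.neg_eq]
    refine ⟨_, y, hcw, funext fun j => ?_, ?_⟩
    · have := hy j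
      simp only [T, AddMonoidHom.mk'_apply, ha]
      simp only [a'] at this ⊢
      linear_combination 2 * this
    · have h8 := D.dot x hx o ho
      have hd : dotInt x o = ∑ j, T x j * T o j := by
        rw [dotInt, ← Equiv.sum_comp e.symm]
        refine Finset.sum_congr rfl fun j _ => ?_
        simp only [T, AddMonoidHom.mk'_apply]
        rcases hσ j with s | s <;> rw [s] <;> ring
      have hTx : ∀ j, T x j = 2 * chi (support₂ fun j => (a' j : ZMod 2)) j + 4 * y j := fun j => by
        have := hy j
        simp only [T, AddMonoidHom.mk'_apply, ha]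
        simp only [a'] at this ⊢
        linear_combination 2 * this
      rw [hd, hTo, Finset.sum_congr rfl fun j _ => by rw [hTx j]] at h8
      simp only [mul_sub, mul_one, add_mul, Finset.sum_sub_distrib, Finset.sum_add_distrib, ← Finset.mul_sum, sum_chi,
        Pi.single_apply, mul_ite, mul_zero, Finset.sum_ite_eq', Finset.mem_univ, if_true] at h8
      obtain ⟨q, hq⟩ := CW_card_four hcw
      rw [hq] at h8
      omega
  intro x
  constructor
  · intro hx
    show T x ∈ leechLattice
    by_cases h2 : (2 : ℤ) ∣ x none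
    · obtain ⟨c, y, hc, hT, hy⟩ := heven x hx h2
      rw [hT, mem_leech]
      exact ⟨0, c, y, hc, fun j => by ring, by simpa using hy⟩
    · obtain ⟨c, y, hc, hT, hy⟩ := heven (x - o) (sub_mem hx ho) (by
        have h := D.parity ho none k₀
        rcases hk₀ with s | s <;> rw [s] at h <;> simp only [Pi.sub_apply] <;> omega)
      rw [show x = (x - o) + o by abel, map_add]
      refine add_mem ?_ hToL
      rw [hT, mem_leech]
      exact ⟨0, c, y, hc, fun j => by ring, by simpa using hy⟩
  · intro hx
    obtain ⟨m, c, y, hc, hxe, hs⟩ := mem_leech.mp hx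
    obtain ⟨a, ha, hae⟩ := mem_code.mp ((he (chiW c)).mp (chiW_mem_supports.mp hc))
    obtain ⟨c', y', hc', hT, hy'⟩ := heven _ ha (dvd_mul_right _ _)
    have hcc : ∀ j, (2 : ℤ) ∣ chi c' j - chi c j := fun j => by
      have h1 := congrFun hT j
      simp only [T, AddMonoidHom.mk'_apply] at h1
      have h2 := hae (e.symm j)
      rw [Equiv.apply_symm_apply] at h2
      have h3 : (a (e.symm j) : ZMod 2) = ((chi c j : ℤ) : ZMod 2) := by
        rw [h2]; by_cases h : j ∈ c <;> simp [chiW, chi, h]
      rw [ZMod.intCast_eq_intCast_iff, Int.modEq_iff_dvd] at h3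
      have : (2 : ℤ) ∣ σ j * a (e.symm j) - chi c' j := ⟨y' j, by linarith⟩
      rcases hσ j with s | s <;> rw [s] at this <;> omega
    have hceq : c' = c := Finset.ext fun j => by
      have := hcc j
      by_cases h : j ∈ c' <;> by_cases h' : j ∈ c <;> simp [chi, h, h'] at this ⊢
    subst hceq
    obtain ⟨z, hz, hTz⟩ := hfour (fun j => y j - y' j + m * (Pi.single (e k₀) 1 : GolayPt → ℤ) j) (by
      simp only [Finset.sum_add_distrib, Finset.sum_sub_distrib, ← Finset.mul_sum, Finset.sum_pi_single',
        Finset.mem_univ, if_true]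
      omega)
    have hsum := add_mem (add_mem (zsmul_mem ho m) ha) hz
    have heq : T (m • o + (fun i => 2 * a i) + z) = T x := by
      rw [map_add, map_add, map_zsmul, hTo, hT, hTz]
      funext j
      simp only [Pi.add_apply, Pi.smul_apply, smul_eq_mul]
      show _ = σ j * x (e.symm j)
      have hj : σ j * x (e.symm j) = m + 2 * chi c' j + 4 * y j := hxe j
      rw [hj]
      ring
    rwa [hTinj heq] at hsum

end Facts

end CfsgLib.LeechUnique
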