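/-
A rank 24 even lattice without roots and with the three shell sizes of the lattice of the code is that lattice.
-/
import Cfsg.Agent.Lib.LeechUnique.Code
import Cfsg.Agent.Lib.Leech.Frames

set_option autoImplicit false
set_option maxRecDepth 4000

namespace CfsgLib.LeechUnique

open Cfsg CfsgLeech Matrix

theorem uniqueness (B : Matrix (Fin 24) (Fin 24) ℤ) (hsymm : B.IsSymm)
    (hpos : ∀ x : Fin 24 → ℤ, x ≠ 0 → 0 < x ⬝ᵥ (B *ᵥ x)) (heven : ∀ x : Fin 24 → ℤ, (2 : ℤ) ∣ x ⬝ᵥ (B *ᵥ x))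
    (h2 : ∀ x : Fin 24 → ℤ, x ⬝ᵥ (B *ᵥ x) ≠ 2)
    (h4 : {x : Fin 24 → ℤ | x ⬝ᵥ (B *ᵥ x) = 4}.ncard = 196560)
    (h6 : {x : Fin 24 → ℤ | x ⬝ᵥ (B *ᵥ x) = 6}.ncard = 16773120)
    (h8 : {x : Fin 24 → ℤ | x ⬝ᵥ (B *ᵥ x) = 8}.ncard = 398034000) :
    ∃ f : (Fin 24 → ℤ) ≃+ leechLattice, ∀ x : Fin 24 → ℤ,
      sqNorm ((f x : leechLattice) : GolayPt → ℤ) = 8 * (x ⬝ᵥ (B *ᵥ x)) := by
  classical
  let d : (Fin 24 → ℤ) →+ (Fin 24 → ℤ) →+ ℤ :=
    AddMonoidHom.mk' (fun x => AddMonoidHom.mk' (fun y => x ⬝ᵥ (B *ᵥ y)) fun a b => by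
      rw [mulVec_add, dotProduct_add]) fun a b => by ext y; simp
  have hd : ∀ x y, d x y = x ⬝ᵥ (B *ᵥ y) := fun _ _ => rfl
  have hsy : ∀ x y, d x y = d y x := fun x y => by
    rw [hd, hd, dotProduct_mulVec, ← mulVec_transpose, hsymm.eq, dotProduct_comm]
  let D : FrameData (Fin 24 → ℤ) :=
    { d := d
      s := 1
      spos := one_pos
      symm := hsy
      pos := fun x hx => by
        have := hpos x hx
        have := heven x
        have := h2 x
        rw [hd]
        omega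
      frame := fun S h0 ho => by
        refine (card_le_of_orthogonal (AddMonoidHom.id _) Function.injective_id d S (fun x hx e => ?_) ho).trans_eq
          (Fintype.card_fin 24)
        have := hpos x (h0 x hx)
        rw [hd] at e
        omega
      index := by rw [index_two_mul, Fintype.card_fin]
      c4 := h4
      c6 := h6
      c8 := h8 }
  have hDd : D.d = d := rfl
  obtain ⟨x₀, hx₀⟩ := Set.nonempty_of_ncard_ne_zero (show {x : Fin 24 → ℤ | x ⬝ᵥ (B *ᵥ x) = 8}.ncard ≠ 0 by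
    rw [h8]; norm_num)
  have hx₀' : D.d x₀ x₀ = 8 * D.s := hx₀
  have h48 := D.count.1 x₀ hx₀'
  have hfin := Set.finite_of_ncard_ne_zero (h48.trans_ne (by norm_num))
  rw [Set.ncard_eq_toFinset_card _ hfin] at h48
  set F := hfin.toFinset with hF
  have hFm : ∀ y ∈ F, d y y = 8 ∧ ∃ z, x₀ - y = 2 • z := fun y hy => by
    rw [hF, Set.Finite.mem_toFinset] at hy
    exact ⟨hy.1, hy.2⟩
  have hF0 : ∀ y ∈ F, y ≠ 0 := fun y hy e => by
    have := (hFm y hy).1
    simp [e] at this
  obtain ⟨S, hS, hc, hn⟩ := D.exists_half F hF0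
  have horth : ∀ x ∈ S, ∀ y ∈ S, x ≠ y → d x y = 0 := fun x hx y hy hxy => by
    obtain ⟨hx8, zx, ezx⟩ := hFm x (hS hx)
    obtain ⟨hy8, zy, ezy⟩ := hFm y (hS hy)
    rcases D.short hxy (le_of_eq hx8) (le_of_eq hy8) (FrameData.cls_eq_iff.mpr ⟨zy - zx, by
      rw [smul_sub, ← ezx, ← ezy]; abel⟩) with h | ⟨-, -, h⟩
    · exact absurd hx (h ▸ hn y hy)
    · exact h
  have hS24 : S.card = 24 := le_antisymm (D.frame S (fun x hx => hF0 x (hS hx)) horth) (by omega)
  obtain ⟨b⟩ : Nonempty (GolayPt ≃ S) := ⟨Fintype.equivOfCardEq (by rw [Fintype.card_coe, hS24, card_univ_pt])⟩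
  let ev : GolayPt → Fin 24 → ℤ := fun i => b i
  have h88 : ∀ i, d (ev i) (ev i) = 8 := fun i => (hFm _ (hS (b i).2)).1
  have hij : ∀ i j, i ≠ j → d (ev i) (ev j) = 0 := fun i j h =>
    horth _ (b i).2 _ (b j).2 fun e => h (b.injective (Subtype.ext e))
  let φ : (Fin 24 → ℤ) →+ (GolayPt → ℤ) := AddMonoidHom.mk' (fun x i => d x (ev i)) fun a c => by
    funext i; simp [map_add]
  have hφe : ∀ j, φ (ev j) = Pi.single j 8 := fun j => by
    funext i
    show d (ev j) (ev i) = _
    by_cases h : i = j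
    · subst h; rw [h88, Pi.single_eq_same]
    · rw [hij j i (Ne.symm h), Pi.single_eq_of_ne h]
  have hexp : ∀ x, (8 : ℤ) • x = ∑ i, φ x i • ev i := by
    intro x
    by_contra hne
    set z := (8 : ℤ) • x - ∑ i, φ x i • ev i with hz
    have hz0 : z ≠ 0 := sub_ne_zero.mpr hne
    have hzo : ∀ j, d z (ev j) = 0 := fun j => by
      rw [hz, map_sub, AddMonoidHom.sub_apply, map_zsmul, map_sum, AddMonoidHom.coe_finsetSum, Finset.sum_apply,
        Finset.sum_eq_single j (fun i _ h => by rw [map_zsmul, AddMonoidHom.smul_apply, hij i j h, smul_zero])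
          (fun h => absurd (Finset.mem_univ j) h),
        AddMonoidHom.smul_apply, map_zsmul, AddMonoidHom.smul_apply, h88]
      simp [φ, mul_comm]
    have hzS : z ∉ S := fun h => by
      have := hzo (b.symm ⟨z, h⟩)
      simp only [ev, Equiv.apply_symm_apply] at this
      have := hpos z hz0
      rw [hd] at *
      omega
    have := D.frame (insert z S) (fun w hw => by
      rcases Finset.mem_insert.mp hw with rfl | h
      · exact hz0
      · exact hF0 w (hS h)) fun x hx y hy hxy => by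
      have hzS' : ∀ w ∈ S, d z w = 0 := fun w hw => by
        have := hzo (b.symm ⟨w, hw⟩)
        simpa [ev] using this
      rcases Finset.mem_insert.mp hx with rfl | hx <;> rcases Finset.mem_insert.mp hy with rfl | hy
      · exact absurd rfl hxy
      · exact hzS' y hy
      · rw [hDd, hsy]; exact hzS' x hx
      · exact horth x hx y hy hxy
    rw [Finset.card_insert_of_notMem hzS] at this
    omega
  have hdot : ∀ x y, dotInt (φ x) (φ y) = 8 * d x y := by
    intro x y
    have h := congrArg (fun v => d v y) (hexp x)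
    simp only [map_zsmul, AddMonoidHom.smul_apply, smul_eq_mul, map_sum, AddMonoidHom.coe_finsetSum,
      Finset.sum_apply] at h
    rw [h, dotInt]
    exact Finset.sum_congr rfl fun i _ => by rw [hsy (ev i) y]; rfl
  have hinj : Function.Injective φ := fun x y h => by
    have hx := hexp x
    rw [h, ← hexp y] at hx
    funext i
    have := congrFun hx i
    simp only [Pi.smul_apply, smul_eq_mul] at this
    omega
  have hsq : ∀ x, sqNorm (φ x) = 8 * d x x := fun x => by
    rw [← hdot]; simp [sqNorm, dotInt, sq]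
  have facts : Facts φ.range := by
    refine ⟨?_, ?_, ?_, fun i => ⟨ev i, hφe i⟩, fun i j _ => ?_, ?_⟩
    · rintro _ ⟨x, rfl⟩ _ ⟨y, rfl⟩
      exact ⟨_, hdot x y⟩
    · rintro _ ⟨x, rfl⟩
      obtain ⟨q, hq⟩ := heven x
      exact ⟨q, by rw [hsq, hd, hq]; ring⟩
    · rintro _ ⟨x, rfl⟩ hne
      have hx0 : x ≠ 0 := fun e => hne (by rw [e, map_zero])
      have := D.pos x hx0
      rw [hsq]
      simp only [hDd, show D.s = 1 from rfl] at this
      omega
    · obtain ⟨-, zi, hzi⟩ := hFm _ (hS (b i).2)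
      obtain ⟨-, zj, hzj⟩ := hFm _ (hS (b j).2)
      refine ⟨zj - zi, ?_⟩
      have h2 : ev i - ev j = 2 • (zj - zi) := by
        rw [smul_sub, ← hzi, ← hzj]; simp only [ev]; abel
      have h := congrArg φ h2
      rw [map_sub, map_nsmul, hφe, hφe] at h
      funext k
      have := congrFun h k
      simp only [Pi.sub_apply, Pi.smul_apply, nsmul_eq_mul, Nat.cast_ofNat, Pi.single_apply] at this ⊢
      split_ifs at this ⊢ <;> omega
    · rw [show {x | x ∈ φ.range ∧ sqNorm x = 32} = φ '' {x : Fin 24 → ℤ | x ⬝ᵥ (B *ᵥ x) = 4} from Set.ext fun v => by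
        constructor
        · rintro ⟨⟨x, rfl⟩, hn⟩
          exact ⟨x, by rw [Set.mem_ofPred_eq]; rw [hsq, hd] at hn; omega, rfl⟩
        · rintro ⟨x, hx, rfl⟩
          rw [Set.mem_ofPred_eq] at hx
          exact ⟨⟨x, rfl⟩, by rw [hsq, hd, hx]; norm_num⟩, Set.ncard_image_of_injective _ hinj, h4]
  obtain ⟨e, σ, hσ, hiff⟩ := facts.identify
  have hσ2 : ∀ j, σ j * σ j = 1 := fun j => by rcases hσ j with s | s <;> rw [s] <;> norm_num
  let g : (Fin 24 → ℤ) →+ leechLattice := AddMonoidHom.mk'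
    (fun x => ⟨fun j => σ j * φ x (e j), (hiff _).mp ⟨x, rfl⟩⟩)
    fun a c => Subtype.ext (funext fun j => by simp [mul_add])
  have hg : Function.Bijective g := by
    refine ⟨fun x y h => hinj (funext fun i => ?_), fun v => ?_⟩
    · obtain ⟨j, rfl⟩ := e.surjective i
      have := congrFun (congrArg Subtype.val h) j
      simp only [g, AddMonoidHom.mk'_apply] at this
      rcases hσ j with s | s <;> rw [s] at this <;> omega
    · obtain ⟨x, hx⟩ := (hiff (fun i => σ (e.symm i) * (v : GolayPt → ℤ) (e.symm i))).mpr (by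
        convert v.2 using 1
        funext j
        rw [Equiv.symm_apply_apply, ← mul_assoc, hσ2, one_mul])
      refine ⟨x, Subtype.ext (funext fun j => ?_)⟩
      simp only [g, AddMonoidHom.mk'_apply, hx, Equiv.symm_apply_apply, ← mul_assoc, hσ2, one_mul]
  refine ⟨AddEquiv.ofBijective g hg, fun x => ?_⟩
  rw [AddEquiv.ofBijective_apply, ← hd x x, ← hsq x]
  simp only [g, AddMonoidHom.mk'_apply, sqNorm]
  rw [← Equiv.sum_comp e (fun i => φ x i ^ 2)]
  exact Finset.sum_congr rfl fun j _ => by rw [mul_pow, sq (σ j), hσ2, one_mul]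

end CfsgLib.LeechUnique
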